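import Mathlib
import Groth.Agent.Lib.Helper19.YonLib
import Groth.Agent.Lib.Helper19.FibLib2

/-!
# Full faithfulness can be tested on the base changes to the slices (helper19)
-/

set_option autoImplicit false
set_option backward.isDefEq.respectTransparency false

universe v u

open CategoryTheory CategoryTheory.Limits Functor Opposite

namespace Groth.Agent.Helper19.OpenDesc

open FibCat Groth.Agent.Helper19.FibLib

variable {C : Type u} [Category.{v} C] {𝒜 ℬ : BasedCategory.{v, max u v} C}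

/-- the data used twice below: for `b : g a ⟶ g a'` a chart `Y` of `g a'`, and objects `o`, `o'` of `fp Y g` over
`a`, `a'` with a compatibility. -/
theorem exists_fp_objs (hℬ : IsFibGrpd ℬ.p) (g : 𝒜 ⥤ᵇ ℬ) {a a' : 𝒜.obj}
    (b : g.obj a ⟶ g.obj a') :
    ∃ (Y : overCat (ℬ.p.obj (g.obj a')) ⥤ᵇ ℬ) (o o' : (fp Y g).obj) (m : o.obj.fst ⟶ o'.obj.fst)
      (_ : o.obj.snd = a) (_ : o'.obj.snd = a'),
      ∀ (α : a ⟶ a'), (Y.map m ≫ o'.obj.iso.hom = o.obj.iso.hom ≫ g.map (eqToHom ‹o.obj.snd = a› ≫ α ≫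
        eqToHom ‹o'.obj.snd = a'›.symm)) ↔ g.map α = b := by
  obtain ⟨Y, θ, hθ⟩ := Groth.Agent.Helper19.YonLib.exists_chart_of_obj hℬ (g.obj a') rfl
  let T := ℬ.p.obj (g.obj a')
  let k : ℬ.p.obj (g.obj a) ⟶ T := ℬ.p.map b
  let c : Over T := Over.mk k
  let m : c ⟶ Over.mk (𝟙 T) := Over.homMk k (by simp [c])
  have hm : (overCat T).p.IsHomLift k m :=
    IsHomLift.of_fac (overCat T).p k m rfl rfl (by simp [m]; rfl)
  have hYm : ℬ.p.IsHomLift k (Y.map m) := inferInstance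
  have hψ : ℬ.p.IsHomLift k (Y.map m ≫ θ.hom) := by
    have h1 : ℬ.p.IsHomLift (k ≫ 𝟙 T) (Y.map m ≫ θ.hom) := inferInstance
    simpa using h1
  have hb : ℬ.p.IsHomLift k b := inferInstanceAs (ℬ.p.IsHomLift (ℬ.p.map b) b)
  obtain ⟨φ, ⟨hφ1, hφ2⟩, -⟩ := existsUnique_fac hℬ k b (𝟙 _) k (by simp) (Y.map m ≫ θ.hom)
  have hφiso : IsIso φ := isIso_of_isHomLift hℬ (𝟙 (ℬ.p.obj (g.obj a))) φ
  let o : (fp Y g).obj := fpMk Y g c a (asIso φ) hφ1
  let o' : (fp Y g).obj := fpMk Y g (Over.mk (𝟙 T)) a' θ hθ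
  refine ⟨Y, o, o', m, rfl, rfl, fun α => ?_⟩
  simp only [eqToHom_refl, Category.id_comp, Category.comp_id]
  change Y.map m ≫ θ.hom = φ ≫ g.map α ↔ g.map α = b
  rw [← hφ2]
  constructor
  · intro h
    exact ((cancel_epi φ).1 h).symm
  · intro h
    rw [h]

/-- a functor between categories fibred in groupoids all of whose base changes to slices have fully faithful
projection is fully faithful. -/
theorem full_faithful_of_forall_fpFst (hℬ : IsFibGrpd ℬ.p) (g : 𝒜 ⥤ᵇ ℬ)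
    (h : ∀ (U : C) (Y : overCat U ⥤ᵇ ℬ), (fpFst Y g).toFunctor.Full ∧ (fpFst Y g).toFunctor.Faithful) :
    g.toFunctor.Full ∧ g.toFunctor.Faithful := by
  constructor
  · refine ⟨fun {a a'} b => ?_⟩
    obtain ⟨Y, o, o', m, ho, ho', hiff⟩ := exists_fp_objs hℬ g b
    obtain ⟨hfull, -⟩ := h _ Y
    obtain ⟨μ, hμ⟩ := (fpFst Y g).toFunctor.map_surjective (X := o) (Y := o') m
    have hμ' : μ.hom.fst = m := hμ
    refine ⟨eqToHom ho.symm ≫ μ.hom.snd ≫ eqToHom ho', ?_⟩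
    rw [← hiff]
    have hw := fp_w μ
    rw [hμ'] at hw
    rw [hw]
    congr 2
    simp
  · refine ⟨fun {a a'} α β hαβ => ?_⟩
    obtain ⟨Y, o, o', m, ho, ho', hiff⟩ := exists_fp_objs hℬ g (g.map α)
    obtain ⟨-, hfaith⟩ := h _ Y
    have h1 := (hiff α).2 rfl
    have h2 := (hiff β).2 hαβ.symm
    let μ₁ : o ⟶ o' := fpHomMk m (eqToHom ho ≫ α ≫ eqToHom ho'.symm) h1
    let μ₂ : o ⟶ o' := fpHomMk m (eqToHom ho ≫ β ≫ eqToHom ho'.symm) h2
    have h3 : μ₁ = μ₂ := (fpFst Y g).toFunctor.map_injective (rfl : (fpFst Y g).map μ₁ = (fpFst Y g).map μ₂)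
    have h4 : μ₁.hom.snd = μ₂.hom.snd := by rw [h3]
    have h5 : eqToHom ho ≫ α ≫ eqToHom ho'.symm = eqToHom ho ≫ β ≫ eqToHom ho'.symm := h4
    have h6 := (cancel_epi (eqToHom ho)).1 h5
    exact (cancel_mono (eqToHom ho'.symm)).1 h6

end Groth.Agent.Helper19.OpenDesc
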