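import Mathlib
import Groth.Agent.Lib.Helper19.OpenDesc.FF
import Groth.Agent.Lib.Helper19.GerbMono.Main
import Groth.Agent.Lib.Helper19.DiagCover
import Groth.Agent.Lib.Helper19.MonoDesc
import Groth.Agent.Lib.Helper19.SrcLoc
import Groth.Agent.Lib.Helper19.InertiaLib
import Groth.Agent.Lib.Helper19.OpenSub2
import Groth.Agent.Lib.Helper19.EssImg
import Groth.Agent.Lib.Helper19.StkGlue
import Groth.Agent.Lib.Helper19.GerbD.Lift
import Groth.Agent.Lib.Helper19.LargestOpenSt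
import Groth.Agent.Lib.Helper19.SubSt
import Groth.Agent.Lib.Helper19.LocQCalc
import Groth.Agent.Lib.Helper19.FlatST
import Groth.Agent.Lib.Helper19.LocQFppfDesc
import Groth.Agent.Lib.Helper19.AlgStInv
import Groth.Agent.Lib.Helper19.StPtsSp
import Groth.Agent.Lib.Helper19.StPtsOpen
import Groth.Agent.Lib.Helper15.AlgSpGlue
import Groth.Agent.S12774
import Groth.Agent.S6399

/-!
# Open immersions of algebraic stacks can be tested after an fppf base change (helper19)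
-/

set_option autoImplicit false
set_option backward.isDefEq.respectTransparency false

universe u

open CategoryTheory CategoryTheory.Limits AlgebraicGeometry

namespace Groth.Agent.Helper19.OpenDesc

open FibCat AlgSt Stk Groth.Agent.Helper19.FibLib Groth.Agent.Helper19.StLib
  Groth.Agent.Helper19.PshSt Groth.Agent.Helper19.PshLib Groth.Agent.Helper19.StPts
  Groth.Agent.Helper19.AlgP Groth.Agent.Helper19.DescCover Groth.Agent.Helper19.GerbMono

variable {S : Scheme.{u}}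

/-- a morphism of algebraic stacks whose base change along an fppf cover is a monomorphism is fully faithful. -/
theorem full_faithful_of_isMono_fpFst {𝒳 𝒴 𝒵 : AlgSt.Cat S} (h𝒳 : IsAlgStack Scheme.fppfPrecoverage 𝒳)
    (h𝒴 : IsAlgStack Scheme.fppfPrecoverage 𝒴) (h𝒵 : IsFibGrpd 𝒵.p) (f : 𝒳 ⥤ᵇ 𝒴) (w : 𝒵 ⥤ᵇ 𝒴)
    (hw : RepByAlgSpWith fppfP w) (hm : IsMono (fpFst w f)) :
    f.toFunctor.Full ∧ f.toFunctor.Faithful := by
  have hfp : IsFibGrpd (fp w f).p := Groth.Agent.S6401.result w f h𝒵 h𝒳.isStack.1 h𝒴.isStack.1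
  have hff := Groth.Agent.S12774.result hfp h𝒵 (fpFst w f) hm
  have A4 : IsEquivOver (diag (fpFst w f)) := (Groth.Agent.S6399.result (fpFst w f) hfp h𝒵).1 hff
  have A5 : RepByAlgSpWith (MorphismProperty.isomorphisms (AlgSp.Sp S)) (diag (fpFst w f)) :=
    Groth.Agent.Helper19.PshSt.repByAlgSpWith_of_equiv _
      (fun U => MorphismProperty.isomorphisms.infer_property (𝟙 _)) _ A4
  have hΔ : RepByAlgSp1 (diag f) := Groth.Agent.Helper19.InertiaLib.repByAlgSp1_diag f h𝒳 h𝒴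
  have hiso : RepByAlgSpWith (MorphismProperty.isomorphisms (AlgSp.Sp S)) (diag f) :=
    Groth.Agent.Helper19.DiagCover.repByAlgSpWith_diag_of_cover stableAlg_isomorphisms
      isLocalOnBase_fppf_isomorphisms h𝒳.isStack.1 h𝒴.isStack.1 h𝒵 f hΔ w hw A5
  have hfpff : IsFibGrpd (fp f f).p := Groth.Agent.S6401.result f f h𝒳.isStack.1 h𝒳.isStack.1 h𝒴.isStack.1
  have hFF := full_faithful_of_forall_fpFst hfpff (diag f) (fun U Y => by
    obtain ⟨F, e, he, hi⟩ := hiso U Y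
    have h1 : IsEquivOver (BasedFunctor.comp e (fpFst Y (diag f))) := isEquivOver_of_isIso_spMapOfOver _ hi
    have h2 : IsEquivOver (fpFst Y (diag f)) := isEquivOver_of_comp e _ he h1
    have := IsEquivOver.isEquivalence h2
    exact ⟨inferInstance, inferInstance⟩)
  haveI := hFF.1
  haveI := hFF.2
  have A9 : IsEquivOver (diag f) := isEquivOver_of_repByAlgSpWith_isomorphisms h𝒳.isStack.1 hfpff (diag f) hiso
  exact (Groth.Agent.S6399.result f h𝒳.isStack.1 h𝒴.isStack.1).2 A9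

/-- a point of `𝒵` whose image in `𝒴` lies in the image of `𝒳` lies in the image of `𝒵 ×_𝒴 𝒳`. -/
theorem mem_range_fpFst {𝒳 𝒴 𝒵 : AlgSt.Cat S} (h𝒳 : IsFibGrpd 𝒳.p) (h𝒴 : IsFibGrpd 𝒴.p) (h𝒵 : IsFibGrpd 𝒵.p)
    (f : 𝒳 ⥤ᵇ 𝒴) (w : 𝒵 ⥤ᵇ 𝒴) (q : Points 𝒵) (h : Points.map w q ∈ Set.range (Points.map f)) :
    q ∈ Set.range (Points.map (fpFst w f)) := by
  obtain ⟨x, hx⟩ := h
  obtain ⟨p, hp, -⟩ := exists_points_fp_of_map_eq h𝒳 h𝒴 h𝒵 f w q x hx.symm
  exact ⟨p, hp⟩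

/-- an object of `𝒵` mapping to an object of `𝒴` all of whose points lie in `T` has all its points in the preimage
of `T`. -/
theorem ofSet_preimage {𝒴 𝒵 : AlgSt.Cat S} (w : 𝒵 ⥤ᵇ 𝒴) (T : Set (Points 𝒴)) (z : 𝒵.obj) (ξ : 𝒴.obj)
    (μ : w.obj z ⟶ ξ) (hξ : Groth.Agent.Helper19.OpenSub.ofSet T ξ) :
    Groth.Agent.Helper19.OpenSub.ofSet (Points.map w ⁻¹' T) z := by
  intro q ⟨φ⟩
  exact hξ (q.map w) ⟨w.map φ ≫ μ⟩

section main

open Groth.Agent.Helper19.EssImg Groth.Agent.Helper19.OpenSub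

variable {𝒳 𝒴 : AlgSt.Cat S} (h𝒳 : IsAlgStack Scheme.fppfPrecoverage 𝒳)
  (h𝒴 : IsAlgStack Scheme.fppfPrecoverage 𝒴) (f : 𝒳 ⥤ᵇ 𝒴) (W V : AlgSp.Space S) (w : ofSp W.obj ⥤ᵇ 𝒴)
  (a : V ⟶ W) (e : ofSp V.obj ⥤ᵇ fp w f) (he : IsEquivOver e)
  (θ : BasedFunctor.comp e (fpFst w f) ≅ ofSpMap a.hom) (ha : AlgSp.RepWith @IsOpenImmersion a.hom)

include h𝒳 h𝒴 he θ ha in
/-- an object of `W` all of whose points map into the image of `𝒳` comes from `𝒳`. -/
theorem exists_obj_of_points (z : (ofSp W.obj).obj)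
    (hz : ofSet (Points.map w ⁻¹' Set.range (Points.map f)) z) :
    ∃ (x : 𝒳.obj) (ε : f.obj x ≅ w.obj z), 𝒴.p.IsHomLift (𝟙 (𝒴.p.obj (w.obj z))) ε.hom := by
  have hW := isAlgStack_ofSp W
  have hV := isAlgStack_ofSp V
  let i : ofSp V.obj ⥤ᵇ ofSp W.obj := ofSpMap a.hom
  have ho : IsOpenImm i :=
    (Groth.Agent.Helper19.SrcLoc.repByAlgSpWith_ofSpMap_iff Groth.Agent.Helper19.LargestOpenSt.stableAlg_openImm
      Groth.Agent.Helper19.LargestOpenSt.descAtlas_openImm a.hom).2 ha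
  have hmono : IsMono i :=
    (Groth.Agent.Helper19.SrcLoc.repByAlgSpWith_ofSpMap_iff Groth.Agent.Helper19.MonoDesc.stableAlg_mono
      Groth.Agent.Helper19.MonoDesc.descAtlas_mono a.hom).2
      (MorphismProperty.monomorphisms.infer_property (hf := Groth.Agent.Helper15.mono_of_repWith_isOpenImmersion a.hom ha) a.hom)
  obtain ⟨hfull, hfaith⟩ := Groth.Agent.S12774.result hV.isStack.1 hW.isStack.1 i hmono
  haveI := hfull
  haveI := hfaith
  have hcl := isClosedUnderIsomorphisms_essImg i hV.isStack.1 hW.isStack.1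
  have he' := isEquivOver_toEssImg i
  have halg : IsAlgStack Scheme.fppfPrecoverage (fullSub (ofSp W.obj) (essImg i)) :=
    (isAlgStack_iff_of_equiv _ (toEssImg i) he').1 hV
  have hQ : IsOpenSubstack (ofSp W.obj) (essImg i) Scheme.fppfPrecoverage :=
    ⟨hcl, halg, repByAlgSpWith_subIncl_essImg i ho⟩
  have hy : ofSet (Set.range (Points.map (subIncl (ofSp W.obj) (essImg i)))) z := by
    intro q hq
    have h1 := hz q hq
    obtain ⟨p, hp⟩ := mem_range_fpFst h𝒳.isStack.1 h𝒴.isStack.1 hW.isStack.1 f w _ h1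
    obtain ⟨p₀, rfl⟩ := (mapHomeo e he).surjective p
    refine ⟨Points.map (toEssImg i) p₀, ?_⟩
    rw [← hp, mapHomeo_apply, ← StPts.map_comp, ← StPts.map_comp, map_congr θ]
    rfl
  obtain ⟨v, ε₀, hε₀⟩ := of_ofSet_range hW (essImg i) hQ z hy
  let o : (fp w f).obj := e.obj v
  let ε₁ : o.obj.fst ≅ i.obj v := appIso θ v
  have h1 : (ofSp W.obj).p.IsHomLift (𝟙 ((ofSp V.obj).p.obj v)) ε₁.hom := θ.hom.isHomLift' v
  have h2 : (ofSp W.obj).p.IsHomLift (𝟙 ((ofSp V.obj).p.obj v)) (ε₁.hom ≫ ε₀.hom) :=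
    isHomLift_id_comp' (R := (ofSp V.obj).p.obj v) (R' := (ofSp W.obj).p.obj z) ε₁.hom ε₀.hom
  have h3 : 𝒴.p.IsHomLift (𝟙 ((ofSp V.obj).p.obj v)) (w.map (ε₁.hom ≫ ε₀.hom)) := inferInstance
  have h4 : 𝒴.p.IsHomLift (𝟙 ((ofSp W.obj).p.obj o.obj.fst)) o.obj.iso.hom := fp_iso_isHomLift o
  have h5 : 𝒴.p.IsHomLift (𝟙 ((ofSp W.obj).p.obj o.obj.fst)) o.obj.iso.inv := inferInstance
  have h6 : 𝒴.p.IsHomLift (𝟙 ((ofSp W.obj).p.obj o.obj.fst)) (o.obj.iso.inv ≫ w.map (ε₁.hom ≫ ε₀.hom)) :=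
    isHomLift_id_comp' (R := (ofSp W.obj).p.obj o.obj.fst) (R' := (ofSp V.obj).p.obj v) o.obj.iso.inv
      (w.map (ε₁.hom ≫ ε₀.hom))
  let ε : f.obj o.obj.snd ≅ w.obj z := o.obj.iso.symm ≪≫ w.toFunctor.mapIso (ε₁ ≪≫ ε₀)
  have h7 : 𝒴.p.IsHomLift (𝟙 ((ofSp W.obj).p.obj o.obj.fst)) ε.hom := h6
  refine ⟨o.obj.snd, ε, ?_⟩
  exact isHomLift_id_of_eq (IsHomLift.codomain_eq 𝒴.p (𝟙 ((ofSp W.obj).p.obj o.obj.fst)) ε.hom).symm ε.hom

variable (hw₁ : RepByAlgSpWith (AlgSp.LocP @Flat) w)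
  (hw₂ : RepByAlgSpWith (AlgSp.LocP @LocallyOfFinitePresentation) w)
  (hw₃ : RepByAlgSpWith AlgSp.IsSurjectiveMor w)

include h𝒳 h𝒴 he θ ha hw₁ hw₂ hw₃ in
/-- every object of `𝒴` all of whose points lie in the image of `𝒳` comes from `𝒳`. -/
theorem exists_preimage_of_ofSet [f.toFunctor.Full] [f.toFunctor.Faithful] (ξ : 𝒴.obj)
    (hξ : ofSet (Set.range (Points.map f)) ξ) :
    ∃ (x : 𝒳.obj) (ε : f.obj x ≅ ξ), 𝒴.p.IsHomLift (𝟙 (𝒴.p.obj ξ)) ε.hom := by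
  have hW := isAlgStack_ofSp W
  have hws : IsSurjective w := isSurjective_of_repByAlgSpWith h𝒴.isStack.1 w hw₃
  have hwq1 : LocQ (AlgSp.LocP @Flat) w :=
    Groth.Agent.Helper19.LocQCore.locQ_of_repByAlgSpWith Groth.Agent.Helper19.FlatST.isSmoothLocalST_flat h𝒴 w hw₁
  have hwq2 : LocQ (AlgSp.LocP @LocallyOfFinitePresentation) w :=
    Groth.Agent.Helper19.LocQCore.locQ_of_repByAlgSpWith Groth.Agent.Helper19.LocQGen.isSmoothLocalST_lfp h𝒴 w hw₂
  obtain ⟨ι, Vi, ci, hcov, hl⟩ :=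
    Groth.Agent.Helper19.GerbD.exists_cover_lift h𝒴 hW w hws hwq1 hwq2 ξ (𝒴.p.obj ξ) rfl
  refine Groth.Agent.Helper19.StkGlue.exists_preimage_of_locally _ h𝒳.isStack h𝒴.isStack f ξ
    (Sieve.ofArrows Vi ci) hcov ?_
  intro V' g hg
  obtain ⟨i, k, rfl⟩ := (Sieve.mem_ofArrows_iff Vi ci g).1 hg
  obtain ⟨z, μ, hμ⟩ := hl i
  have hz := ofSet_preimage w (Set.range (Points.map f)) z ξ μ hξ
  obtain ⟨x, ε, hε⟩ := exists_obj_of_points h𝒳 h𝒴 f W V w a e he θ ha z hz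
  have hdom : 𝒴.p.obj (w.obj z) = Vi i := IsHomLift.domain_eq 𝒴.p (ci i) μ
  have hε' : 𝒴.p.IsHomLift (𝟙 (Vi i)) ε.hom := isHomLift_id_of_eq hdom ε.hom
  have hx : 𝒳.p.obj x = Vi i := by
    rw [← f.w_obj x]
    exact IsHomLift.domain_eq 𝒴.p (𝟙 (Vi i)) ε.hom
  obtain ⟨x', ψ, hψ⟩ := Groth.Agent.Helper19.GerbD.exists_pullback_obj h𝒳.isStack.1 k x hx
  have h1 : 𝒴.p.IsHomLift k (f.map ψ) := inferInstance
  have h2 : 𝒴.p.IsHomLift (k ≫ 𝟙 (Vi i) ≫ ci i) (f.map ψ ≫ ε.hom ≫ μ) := inferInstance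
  refine ⟨x', f.map ψ ≫ ε.hom ≫ μ, ?_⟩
  simpa using h2

include h𝒳 h𝒴 he θ ha hw₁ hw₂ hw₃ in
/-- the image of `𝒳` in the points of `𝒴` is open. -/
theorem isOpen_range_map : IsOpen (Set.range (Points.map f)) := by
  have hW := isAlgStack_ofSp W
  have hV := isAlgStack_ofSp V
  have hX := h𝒳.isStack.1
  let i : ofSp V.obj ⥤ᵇ ofSp W.obj := ofSpMap a.hom
  have ho : IsOpenImm i :=
    (Groth.Agent.Helper19.SrcLoc.repByAlgSpWith_ofSpMap_iff Groth.Agent.Helper19.LargestOpenSt.stableAlg_openImm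
      Groth.Agent.Helper19.LargestOpenSt.descAtlas_openImm a.hom).2 ha
  have h1 : IsOpen (Set.range (Points.map i)) :=
    (Groth.Agent.Helper19.SubSt.isOpenMap_map_of_isOpenImm hV hW.isStack.1 i ho).isOpen_range
  have h2 : IsOpenMap (Points.map w) := isOpenMap_map_of_flat_lfp hW h𝒴.isStack.1 w hw₁ hw₂
  have h3 : IsOpen (Points.map w '' Set.range (Points.map i)) := h2 _ h1
  have hs : Function.Surjective (Points.map (fpSnd w f)) :=
    isSurjective_of_repByAlgSpWith hX (fpSnd w f) (repByAlgSpWith_fpSnd w f hw₃)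
  have h4 : Points.map w '' Set.range (Points.map i) = Set.range (Points.map f) := by
    ext y
    constructor
    · rintro ⟨_, ⟨p₀, rfl⟩, rfl⟩
      refine ⟨Points.map (fpSnd w f) (Points.map e p₀), ?_⟩
      rw [← map_congr θ, StPts.map_comp, ← StPts.map_comp (fpFst w f) w, map_congr (fpIso w f),
        StPts.map_comp]
    · rintro ⟨x, rfl⟩
      obtain ⟨p, rfl⟩ := hs x
      obtain ⟨p₀, rfl⟩ := (mapHomeo e he).surjective p
      refine ⟨Points.map i p₀, ⟨p₀, rfl⟩, ?_⟩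
      rw [mapHomeo_apply, ← map_congr θ, StPts.map_comp, ← StPts.map_comp (fpFst w f) w,
        map_congr (fpIso w f), StPts.map_comp]
  rw [← h4]
  exact h3

include h𝒳 h𝒴 he θ ha hw₁ hw₂ hw₃ in
/-- **S12874 (⇐)**: a morphism of algebraic stacks whose base change along an fppf cover by an algebraic space is an
open immersion of algebraic spaces is an open immersion. -/
theorem isOpenImm_of_cover : IsOpenImm f := by
  have hW := isAlgStack_ofSp W
  have hmono : RepByAlgSpWith (MorphismProperty.monomorphisms (AlgSp.Sp S)) (ofSpMap a.hom) :=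
    (Groth.Agent.Helper19.SrcLoc.repByAlgSpWith_ofSpMap_iff Groth.Agent.Helper19.MonoDesc.stableAlg_mono
      Groth.Agent.Helper19.MonoDesc.descAtlas_mono a.hom).2
      (MorphismProperty.monomorphisms.infer_property
        (hf := Groth.Agent.Helper15.mono_of_repWith_isOpenImmersion a.hom ha) a.hom)
  have h2 : RepByAlgSpWith (MorphismProperty.monomorphisms (AlgSp.Sp S)) (BasedFunctor.comp e (fpFst w f)) :=
    repByAlgSpWith_of_iso θ hmono
  have h3 : IsMono (fpFst w f) := (repByAlgSpWith_equiv_comp e he (fpFst w f)).1 h2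
  obtain ⟨hfull, hfaith⟩ := full_faithful_of_isMono_fpFst h𝒳 h𝒴 hW.isStack.1 f w
    (repByAlgSpWith_fppfP w hw₁ hw₂ hw₃) h3
  haveI := hfull
  haveI := hfaith
  have hopen : IsOpen (Set.range (Points.map f)) :=
    isOpen_range_map h𝒳 h𝒴 f W V w a e he θ ha hw₁ hw₂ hw₃
  have hsub := isOpenSubstack_ofSet h𝒴 (Set.range (Points.map f)) hopen
  let f' : 𝒳 ⥤ᵇ fullSub 𝒴 (ofSet (Set.range (Points.map f))) :=
    liftSub f (ofSet (Set.range (Points.map f))) (ofSet_range_obj h𝒳.isStack.1 h𝒴.isStack.1 f)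
  have hfull' : f'.toFunctor.Full := by
    refine ⟨fun {a b} g => ?_⟩
    obtain ⟨g', hg'⟩ := f.toFunctor.map_surjective g.hom
    exact ⟨g', ObjectProperty.hom_ext _ hg'⟩
  have hfaith' : f'.toFunctor.Faithful := by
    refine ⟨fun {a b} g g' h => ?_⟩
    apply f.toFunctor.map_injective
    exact congrArg (fun k => k.hom) h
  have hf' : IsEquivOver f' := by
    refine isEquivOver_of_fullyFaithful f' (fun ξ => ?_)
    obtain ⟨x, ε, hε⟩ := exists_preimage_of_ofSet h𝒳 h𝒴 f W V w a e he θ ha hw₁ hw₂ hw₃ ξ.obj ξ.property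
    refine ⟨x, ObjectProperty.isoMk _ ε, ?_⟩
    exact (isHomLift_fullSub_iff (ofSet (Set.range (Points.map f))) _ _).2 hε
  exact (repByAlgSpWith_equiv_comp f' hf' (subIncl 𝒴 (ofSet (Set.range (Points.map f))))).2 hsub.2.2

end main

end Groth.Agent.Helper19.OpenDesc
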